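import Cfsg.Agent.Lib.LargeExtra.Basic

/-!
Subgroups `Q ≤ C(z)` of symplectic type and exponent four, self-centralizing and normal in `C(z)`:
if a conjugate `x ≠ z` of `z` lies in `Q`, then `z` lies in the corresponding conjugate of `Q`.
-/

set_option autoImplicit false
set_option linter.unusedSectionVars false
set_option linter.style.haveILetI false

namespace Cfsg.Agent.SympQ

open Subgroup
open LargeExtra (mem_conjMap conj_mem_conjMap)

variable {G : Type*} [Group G] [Finite G]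

/-- The standing hypotheses on `Q` and the involution `z`. -/
structure SQ (Q : Subgroup G) (z : G) : Prop where
  mem : z ∈ Q
  sq : z * z = 1
  ne_one : z ≠ 1
  comm : ∀ q ∈ Q, q * z = z * q
  sq_cases : ∀ q ∈ Q, q * q = 1 ∨ q * q = z
  conj_cases : ∀ q ∈ Q, ∀ r ∈ Q, q * r * q⁻¹ = r ∨ q * r * q⁻¹ = r * z
  cen : ∀ u ∈ Q, u * u = 1 → (∀ v ∈ Q, u * v = v * u) → u = 1 ∨ u = z
  cent : ∀ a : G, (∀ q ∈ Q, q * a = a * q) → a ∈ Q
  norm : ∀ p : G, p * z = z * p → ∀ q ∈ Q, p * q * p⁻¹ ∈ Q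

namespace SQ

variable {Q : Subgroup G} {z : G}

theorem inv_eq (h : SQ Q z) : z⁻¹ = z := inv_eq_of_mul_eq_one_right h.sq

theorem ne_mul (h : SQ Q z) (v : G) : v ≠ v * z := fun e => h.ne_one (mul_eq_left.1 e.symm)

theorem conj (h : SQ Q z) (g : G) : SQ (Q.map (MulAut.conj g).toMonoidHom) (g * z * g⁻¹) where
  mem := conj_mem_conjMap h.mem
  sq := by rw [show g * z * g⁻¹ * (g * z * g⁻¹) = g * (z * z) * g⁻¹ by group, h.sq]; group
  ne_one := fun e => h.ne_one (by rwa [conj_eq_one_iff] at e)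
  comm := by
    rintro _ ⟨q, hq, rfl⟩
    show g * q * g⁻¹ * (g * z * g⁻¹) = g * z * g⁻¹ * (g * q * g⁻¹)
    rw [show g * q * g⁻¹ * (g * z * g⁻¹) = g * (q * z) * g⁻¹ by group, h.comm q hq]; group
  sq_cases := by
    rintro _ ⟨q, hq, rfl⟩
    show g * q * g⁻¹ * (g * q * g⁻¹) = 1 ∨ g * q * g⁻¹ * (g * q * g⁻¹) = g * z * g⁻¹
    rw [show g * q * g⁻¹ * (g * q * g⁻¹) = g * (q * q) * g⁻¹ by group]
    rcases h.sq_cases q hq with e | e <;> rw [e]
    · exact Or.inl (by group)
    · exact Or.inr rfl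
  conj_cases := by
    rintro _ ⟨q, hq, rfl⟩ _ ⟨r, hr, rfl⟩
    show g * q * g⁻¹ * (g * r * g⁻¹) * (g * q * g⁻¹)⁻¹ = g * r * g⁻¹ ∨
      g * q * g⁻¹ * (g * r * g⁻¹) * (g * q * g⁻¹)⁻¹ = g * r * g⁻¹ * (g * z * g⁻¹)
    rw [show g * q * g⁻¹ * (g * r * g⁻¹) * (g * q * g⁻¹)⁻¹ = g * (q * r * q⁻¹) * g⁻¹ by group]
    rcases h.conj_cases q hq r hr with e | e <;> rw [e]
    · exact Or.inl rfl
    · exact Or.inr (by group)
  cen := by
    rintro _ ⟨u, hu, rfl⟩ h2 hc
    show g * u * g⁻¹ = 1 ∨ g * u * g⁻¹ = g * z * g⁻¹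
    have h2' : u * u = 1 := by
      have e : g * u * g⁻¹ * (g * u * g⁻¹) = 1 := h2
      rwa [show g * u * g⁻¹ * (g * u * g⁻¹) = g * (u * u) * g⁻¹ by group, conj_eq_one_iff] at e
    have huc : ∀ v ∈ Q, u * v = v * u := fun v hv => by
      have e : g * u * g⁻¹ * (g * v * g⁻¹) = g * v * g⁻¹ * (g * u * g⁻¹) := hc _ (conj_mem_conjMap hv)
      calc u * v = g⁻¹ * (g * u * g⁻¹ * (g * v * g⁻¹)) * g := by group
        _ = g⁻¹ * (g * v * g⁻¹ * (g * u * g⁻¹)) * g := by rw [e]
        _ = v * u := by group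
    rcases h.cen u hu h2' huc with e | e
    · exact Or.inl (by rw [e]; group)
    · exact Or.inr (by rw [e])
  cent := fun a ha => mem_conjMap.2 <| h.cent _ fun q hq => by
    have e := ha _ (conj_mem_conjMap (g := g) hq)
    calc q * (g⁻¹ * a * g) = g⁻¹ * (g * q * g⁻¹ * a) * g := by group
      _ = g⁻¹ * (a * (g * q * g⁻¹)) * g := by rw [e]
      _ = g⁻¹ * a * g * q := by group
  norm := fun p hp => by
    rintro _ ⟨q, hq, rfl⟩
    refine mem_conjMap.2 ?_
    show g⁻¹ * (p * (g * q * g⁻¹) * p⁻¹) * g ∈ Q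
    rw [show g⁻¹ * (p * (g * q * g⁻¹) * p⁻¹) * g = g⁻¹ * p * g * q * (g⁻¹ * p * g)⁻¹ by group]
    refine h.norm _ ?_ q hq
    calc g⁻¹ * p * g * z = g⁻¹ * (p * (g * z * g⁻¹)) * g := by group
      _ = g⁻¹ * (g * z * g⁻¹ * p) * g := by rw [hp]
      _ = z * (g⁻¹ * p * g) := by group

/-- A noncentral involution is moved. -/
theorem exists_conj (h : SQ Q z) {x : G} (hx : x ∈ Q) (hx2 : x * x = 1) (h1 : x ≠ 1) (h2 : x ≠ z) :
    ∃ q ∈ Q, q * x * q⁻¹ = x * z := by
  by_contra hcon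
  push Not at hcon
  refine (h.cen x hx hx2 fun v hv => ?_).elim h1 h2
  rcases h.conj_cases v hv x hx with e | e
  · exact (mul_inv_eq_iff_eq_mul.1 e).symm
  · exact absurd e (hcon v hv)

/-- Involutions commuting with the centralizer of an involution of `Q`. -/
theorem mem_pair_of_commute (h : SQ Q z) {x : G} (hx : x ∈ Q) (hx2 : x * x = 1) (h1 : x ≠ 1) (h2 : x ≠ z)
    {d : G} (hd : d ∈ Q) (hd2 : d * d = 1) (hc : ∀ p ∈ Q, p * x = x * p → p * d = d * p) :
    d = 1 ∨ d = z ∨ d = x ∨ d = z * x := by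
  obtain ⟨q, hq, eq⟩ := h.exists_conj hx hx2 h1 h2
  have key : ∀ e ∈ Q, (∀ p ∈ Q, p * x = x * p → p * e = e * p) → q * e * q⁻¹ = e →
      ∀ v ∈ Q, e * v = v * e := by
    intro e he hce hqe v hv
    rcases h.conj_cases v hv x hx with e1 | e1
    · exact (hce v hv (mul_inv_eq_iff_eq_mul.1 e1)).symm
    · have hp : q⁻¹ * v * x = x * (q⁻¹ * v) := by
        rw [← eq, mul_inv_eq_iff_eq_mul] at e1
        calc q⁻¹ * v * x = q⁻¹ * (v * x) := by group
          _ = x * (q⁻¹ * v) := by rw [e1]; group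
      have h3 := hce _ (mul_mem (inv_mem hq) hv) hp
      rw [mul_inv_eq_iff_eq_mul] at hqe
      calc e * v = e * q * (q⁻¹ * v) := by group
        _ = q * (e * (q⁻¹ * v)) := by rw [← hqe]; group
        _ = v * e := by rw [← h3]; group
  rcases h.conj_cases q hq d hd with e | e
  · rcases h.cen d hd hd2 (key d hd hc e) with e1 | e1
    exacts [Or.inl e1, Or.inr (Or.inl e1)]
  · have hdx : d * x = x * d := (hc x hx rfl).symm
    have hdx2 : d * x * (d * x) = 1 := by
      rw [show d * x * (d * x) = d * (x * d) * x by group, ← hdx,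
        show d * (d * x) * x = (d * d) * (x * x) by group, hd2, hx2, mul_one]
    have hc' : ∀ p ∈ Q, p * x = x * p → p * (d * x) = d * x * p := fun p hp hpx => by
      rw [← mul_assoc, hc p hp hpx, mul_assoc, hpx, mul_assoc]
    have hfix : q * (d * x) * q⁻¹ = d * x := by
      rw [show q * (d * x) * q⁻¹ = q * d * q⁻¹ * (q * x * q⁻¹) by group, e, eq,
        show d * z * (x * z) = d * (z * x) * z by group, ← h.comm x hx, ← mul_assoc, mul_assoc (d * x), h.sq,
        mul_one]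
    rcases h.cen _ (mul_mem hd hx) hdx2 (key _ (mul_mem hd hx) hc' hfix) with e1 | e1
    · exact Or.inr (Or.inr (Or.inl (by rw [mul_eq_one_iff_eq_inv.1 e1, inv_eq_of_mul_eq_one_right hx2])))
    · refine Or.inr (Or.inr (Or.inr ?_))
      rw [← e1, mul_assoc, hx2, mul_one]

/-- If an element outside an abelian centralizer exists, commuting noncentral elements have central product. -/
theorem mul_central (h : SQ Q z) {x : G}
    (hR : ∀ a ∈ Q, ∀ b ∈ Q, a * x = x * a → b * x = x * b → a * b = b * a) (hx : x ∈ Q)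
    {u v : G} (hu : u ∈ Q) (hv : v ∈ Q) (huv : u * v = v * u)
    (hu1 : ¬ ∀ r ∈ Q, u * r = r * u) (hv1 : ¬ ∀ r ∈ Q, v * r = r * v) :
    ∀ r ∈ Q, u * v * r = r * (u * v) := by
  have mem_of : ∀ a ∈ Q, ∀ b ∈ Q, ¬ a * x = x * a → ¬ b * x = x * b → a⁻¹ * b * x = x * (a⁻¹ * b) := by
    intro a ha b hb ha1 hb1
    rcases h.conj_cases a ha x hx with e | e
    · exact absurd (mul_inv_eq_iff_eq_mul.1 e) ha1
    rcases h.conj_cases b hb x hx with e' | e'
    · exact absurd (mul_inv_eq_iff_eq_mul.1 e') hb1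
    rw [← e, mul_inv_eq_iff_eq_mul] at e'
    calc a⁻¹ * b * x = a⁻¹ * (b * x) := by group
      _ = x * (a⁻¹ * b) := by rw [e']; group
  -- an element of the centralizer commuting with an outside element is central
  have cent' : ∀ c ∈ Q, c * x = x * c → ∀ w ∈ Q, ¬ w * x = x * w → c * w = w * c →
      ∀ r ∈ Q, c * r = r * c := by
    intro c hc hcx w hw hw1 hcw r hr
    by_cases hrx : r * x = x * r
    · exact hR c hc r hr hcx hrx
    · have h3 := hR c hc _ (mul_mem (inv_mem hw) hr) hcx (mem_of w hw r hr hw1 hrx)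
      calc c * r = c * w * (w⁻¹ * r) := by group
        _ = w * (c * (w⁻¹ * r)) := by rw [hcw]; group
        _ = r * c := by rw [h3]; group
  have hprod : ∀ a ∈ Q, ∀ b ∈ Q, ∀ w ∈ Q, w * a * w⁻¹ = a * z → w * b * w⁻¹ = b * z →
      a * b * w = w * (a * b) := by
    intro a _ b hb w _ e1 e2
    refine (mul_inv_eq_iff_eq_mul.1 ?_).symm
    rw [show w * (a * b) * w⁻¹ = w * a * w⁻¹ * (w * b * w⁻¹) by group, e1, e2,
      show a * z * (b * z) = a * (z * b) * z by group, ← h.comm b hb,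
      show a * (b * z) * z = a * b * (z * z) by group, h.sq, mul_one]
  by_cases hux : u * x = x * u
  · by_cases hvx : v * x = x * v
    · intro r hr
      by_cases hrx : r * x = x * r
      · exact hR _ (mul_mem hu hv) r hr (by rw [mul_assoc, hvx, ← mul_assoc, hux, mul_assoc]) hrx
      · refine hprod u hu v hv r hr ?_ ?_
        · rcases h.conj_cases r hr u hu with e | e
          · exact absurd (cent' u hu hux r hr hrx (mul_inv_eq_iff_eq_mul.1 e).symm) hu1
          · exact e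
        · rcases h.conj_cases r hr v hv with e | e
          · exact absurd (cent' v hv hvx r hr hrx (mul_inv_eq_iff_eq_mul.1 e).symm) hv1
          · exact e
    · exact absurd (cent' u hu hux v hv hvx huv) hu1
  · by_cases hvx : v * x = x * v
    · exact absurd (cent' v hv hvx u hu hux huv.symm) hv1
    · have hx' : u * v * x = x * (u * v) := by
        rcases h.conj_cases u hu x hx with e | e
        · exact absurd (mul_inv_eq_iff_eq_mul.1 e) hux
        rcases h.conj_cases v hv x hx with e' | e'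
        · exact absurd (mul_inv_eq_iff_eq_mul.1 e') hvx
        refine mul_inv_eq_iff_eq_mul.1 ?_
        rw [show u * v * x * (u * v)⁻¹ = u * (v * x * v⁻¹) * u⁻¹ by group, e',
          show u * (x * z) * u⁻¹ = u * x * u⁻¹ * (u * z * u⁻¹) by group, e, h.comm u hu,
          mul_inv_cancel_right, mul_assoc, h.sq, mul_one]
      exact cent' _ (mul_mem hu hv) hx' u hu hux (by rw [mul_assoc, ← huv])

/-- If a conjugate of `z` other than `z` lies in `Q`, then `z` lies in the corresponding conjugate of `Q`. -/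
theorem mem_conj (h : SQ Q z) {g : G} (hxQ : g * z * g⁻¹ ∈ Q) (hxz : g * z * g⁻¹ ≠ z) :
    z ∈ Q.map (MulAut.conj g).toMonoidHom := by
  set x := g * z * g⁻¹ with hx
  set Q' := Q.map (MulAut.conj g).toMonoidHom
  have h' : SQ Q' x := h.conj g
  by_contra hz'
  have hzx : z * x = x * z := (h.comm x hxQ).symm
  have hzx' : z * x * z⁻¹ = x := by rw [hzx, mul_inv_cancel_right]
  have hzi := h.inv_eq
  have hx1 : x ≠ 1 := h'.ne_one
  have hN : ∀ p, p * x = x * p → ∀ v ∈ Q', p * v * p⁻¹ ∈ Q' := h'.norm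
  have bad : ∀ y ∈ Q', z * y * z⁻¹ ≠ y * x := by
    intro y hy e
    obtain ⟨q, hq, eq⟩ := h.exists_conj hxQ h'.sq hx1 hxz
    have e1 : y⁻¹ * z * y = x * z := by
      rw [mul_inv_eq_iff_eq_mul] at e
      rw [show y⁻¹ * z * y = y⁻¹ * (z * y) by group, e]
      group
    have hyx : y⁻¹ * x * y = x := by rw [mul_assoc, ← h'.comm y hy, inv_mul_cancel_left]
    have hqz : q * z * q⁻¹ = z := by rw [h.comm q hq, mul_inv_cancel_right]
    set η := q * y⁻¹ with hη
    have f1 : η * z * η⁻¹ = x := by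
      rw [hη, show q * y⁻¹ * z * (q * y⁻¹)⁻¹ = q * (y⁻¹ * z * y) * q⁻¹ by group, e1,
        show q * (x * z) * q⁻¹ = q * x * q⁻¹ * (q * z * q⁻¹) by group, eq, hqz, mul_assoc, h.sq, mul_one]
    have f2 : η * x * η⁻¹ = x * z := by
      rw [hη, show q * y⁻¹ * x * (q * y⁻¹)⁻¹ = q * (y⁻¹ * x * y) * q⁻¹ by group, hyx, eq]
    have f3 : η * (x * z) * η⁻¹ = z := by
      rw [show η * (x * z) * η⁻¹ = η * x * η⁻¹ * (η * z * η⁻¹) by group, f1, f2, mul_assoc, hzx,
        ← mul_assoc, h'.sq, one_mul]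
    have hν : ∀ w ∈ Q, g⁻¹ * η * w * (g⁻¹ * η)⁻¹ ∈ Q := h.norm _ <| by
      calc g⁻¹ * η * z = g⁻¹ * (η * z * η⁻¹) * η := by group
        _ = z * (g⁻¹ * η) := by rw [f1, hx]; group
    apply hz'
    rw [mem_conjMap]
    have h5 := hν _ (mul_mem hxQ h.mem)
    rw [show g⁻¹ * η * (x * z) * (g⁻¹ * η)⁻¹ = g⁻¹ * (η * (x * z) * η⁻¹) * g by group, f3] at h5
    exact h5
  have σmem : ∀ v ∈ Q', z * v * z⁻¹ ∈ Q' := fun v hv => hN z hzx v hv
  have σσ : ∀ v : G, z * (z * v * z⁻¹) * z⁻¹ = v := fun v => by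
    rw [hzi, show z * (z * v * z) * z = (z * z) * v * (z * z) by group, h.sq, one_mul, mul_one]
  -- the displacement of an element under `z` is an involution fixed by `z`
  have disp : ∀ v ∈ Q', v⁻¹ * (z * v * z⁻¹) * (v⁻¹ * (z * v * z⁻¹)) = 1 ∧
      z * (v⁻¹ * (z * v * z⁻¹)) * z⁻¹ = v⁻¹ * (z * v * z⁻¹) := by
    intro v hv
    set w := v⁻¹ * (z * v * z⁻¹) with hw
    have hw' : w ∈ Q' := mul_mem (inv_mem hv) (σmem v hv)
    have e : z * w * z⁻¹ = w⁻¹ := by
      rw [hw, show z * (v⁻¹ * (z * v * z⁻¹)) * z⁻¹ = (z * v * z⁻¹)⁻¹ * (z * (z * v * z⁻¹) * z⁻¹) by group, σσ]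
      group
    rcases h'.sq_cases w hw' with e2 | e2
    · exact ⟨e2, by rwa [inv_eq_of_mul_eq_one_right e2] at e⟩
    · refine absurd ?_ (bad w hw')
      rw [e]
      apply inv_eq_of_mul_eq_one_right
      rw [← mul_assoc, e2, h'.sq]
  have close : ∀ v ∈ Q', (∀ r ∈ Q', v⁻¹ * (z * v * z⁻¹) * r = r * (v⁻¹ * (z * v * z⁻¹))) →
      z * v * z⁻¹ = v := by
    intro v hv hc
    rcases h'.cen _ (mul_mem (inv_mem hv) (σmem v hv)) (disp v hv).1 hc with e | e
    · exact (inv_mul_eq_one.1 e).symm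
    · exact absurd (inv_mul_eq_iff_eq_mul.1 e) (bad v hv)
  have step2 : ∀ t ∈ Q', (∀ c ∈ Q', c * z = z * c → t * c = c * t) → z * t * z⁻¹ = t := by
    intro t ht htc
    refine close t ht fun v hv => ?_
    obtain ⟨i, hi, hvt⟩ : ∃ i, (i = 1 ∨ i = x) ∧ v * t * v⁻¹ = t * i := by
      rcases h'.conj_cases v hv t ht with e | e
      exacts [⟨1, Or.inl rfl, by rw [e, mul_one]⟩, ⟨x, Or.inr rfl, e⟩]
    have hiz : z * i * z⁻¹ = i := by
      rcases hi with rfl | rfl
      exacts [by group, hzx']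
    have hiv : ∀ u ∈ Q', u * i = i * u := by
      intro u hu
      rcases hi with rfl | rfl
      exacts [by group, h'.comm u hu]
    have hωv : t * (v⁻¹ * (z * v * z⁻¹)) = v⁻¹ * (z * v * z⁻¹) * t :=
      htc _ (mul_mem (inv_mem hv) (σmem v hv)) (mul_inv_eq_iff_eq_mul.1 (disp v hv).2).symm
    set w := z * v * z⁻¹ with hw
    have e1 : w * t * w⁻¹ = t * i := by
      calc w * t * w⁻¹ = v * ((v⁻¹ * w) * t) * w⁻¹ := by group
        _ = v * (t * (v⁻¹ * w)) * w⁻¹ := by rw [hωv]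
        _ = t * i := by rw [← hvt]; group
    have e2 : v * (z * t * z⁻¹) * v⁻¹ = z * t * z⁻¹ * i := by
      have := congrArg (fun a => z * a * z⁻¹) e1
      rw [show z * (w * t * w⁻¹) * z⁻¹ = (z * w * z⁻¹) * (z * t * z⁻¹) * (z * w * z⁻¹)⁻¹ by group, hw, σσ,
        show z * (t * i) * z⁻¹ = z * t * z⁻¹ * (z * i * z⁻¹) by group, hiz] at this
      exact this
    symm
    refine mul_inv_eq_iff_eq_mul.1 ?_
    rw [show v * (t⁻¹ * (z * t * z⁻¹)) * v⁻¹ = (v * t * v⁻¹)⁻¹ * (v * (z * t * z⁻¹) * v⁻¹) by group,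
      hvt, e2, mul_inv_rev, hiv _ (σmem t ht)]
    have hti := hiv t ht
    calc i⁻¹ * t⁻¹ * (i * (z * t * z⁻¹)) = (t * i)⁻¹ * (i * t) * (t⁻¹ * (z * t * z⁻¹)) := by group
      _ = _ := by rw [← hti]; group
  have hzcent : ¬ ∀ v ∈ Q', z * v * z⁻¹ = v := fun H =>
    hz' (h'.cent z fun v hv => (mul_inv_eq_iff_eq_mul.1 (H v hv)).symm)
  by_cases hab : ∀ a ∈ Q, ∀ b ∈ Q, a * x = x * a → b * x = x * b → a * b = b * a
  · -- the centralizer of `x` in `Q` is abelian
    have hR' : ∀ a ∈ Q', ∀ b ∈ Q', a * (g * x * g⁻¹) = g * x * g⁻¹ * a →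
        b * (g * x * g⁻¹) = g * x * g⁻¹ * b → a * b = b * a := by
      rintro _ ⟨a, ha, rfl⟩ _ ⟨b, hb, rfl⟩ e1 e2
      have f : ∀ c : G, (MulAut.conj g).toMonoidHom c * (g * x * g⁻¹) = g * x * g⁻¹ * (MulAut.conj g).toMonoidHom c →
          c * x = x * c := by
        intro c e
        have e' : g * c * g⁻¹ * (g * x * g⁻¹) = g * x * g⁻¹ * (g * c * g⁻¹) := e
        calc c * x = g⁻¹ * (g * c * g⁻¹ * (g * x * g⁻¹)) * g := by group
          _ = g⁻¹ * (g * x * g⁻¹ * (g * c * g⁻¹)) * g := by rw [e']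
          _ = x * c := by group
      rw [← map_mul, hab a ha b hb (f a e1) (f b e2), map_mul]
    refine hzcent fun v hv => close v hv ?_
    obtain ⟨hu2, hufix⟩ := disp v hv
    set u := v⁻¹ * (z * v * z⁻¹) with hu
    have huQ : u ∈ Q' := mul_mem (inv_mem hv) (σmem v hv)
    have hσ : z * v * z⁻¹ = v * u := by rw [hu]; group
    have huv : u * v = v * u := by
      have hsq : v * u * (v * u) = v * v := by
        rw [← hσ, show z * v * z⁻¹ * (z * v * z⁻¹) = z * (v * v) * z⁻¹ by group]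
        rcases h'.sq_cases v hv with e | e <;> rw [e]
        · group
        · exact hzx'
      calc u * v = u * v * (u * u) := by rw [hu2, mul_one]
        _ = v⁻¹ * (v * u * (v * u)) * u := by group
        _ = v * u := by rw [hsq]; group
    have hσc : ∀ w ∈ Q', (∀ r ∈ Q', w * r = r * w) → ∀ r ∈ Q', z * w * z⁻¹ * r = r * (z * w * z⁻¹) := by
      intro w _ hc r hr
      calc z * w * z⁻¹ * r = z * (w * (z⁻¹ * r * z)) * z⁻¹ := by group
        _ = z * ((z⁻¹ * r * z) * w) * z⁻¹ := by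
          rw [hc _ (by rw [hzi]; simpa [hzi] using σmem r hr)]
        _ = r * (z * w * z⁻¹) := by group
    intro r hr
    by_cases hvc : ∀ r ∈ Q', v * r = r * v
    · have h1 := hσc v hv hvc r hr
      rw [hσ] at h1
      calc u * r = v⁻¹ * (v * u * r) := by group
        _ = v⁻¹ * (r * (v * u)) := by rw [h1]
        _ = v⁻¹ * (r * v) * u := by group
        _ = r * u := by rw [← hvc r hr]; group
    · by_contra hur
      refine hvc fun s hs => ?_
      have hc := h'.mul_central hR' (conj_mem_conjMap hxQ) hv huQ huv.symm hvc (fun hall => hur (hall r hr))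
      have h1 := hσc _ (mul_mem hv huQ) hc s hs
      rwa [← hσ, σσ] at h1
  · -- otherwise there are `a`, `b` in the centralizer with `[a,b] = z`
    push Not at hab
    obtain ⟨a, ha, b, hb, hax, hbx, hne⟩ := hab
    have hab : a * b * a⁻¹ = b * z := by
      rcases h.conj_cases a ha b hb with e | e
      · exact absurd (mul_inv_eq_iff_eq_mul.1 e) hne
      · exact e
    have step3 : ∀ c ∈ Q', c * z = z * c → ∀ p ∈ Q, p * x = x * p → ∃ i, (i = 1 ∨ i = x) ∧ p * c * p⁻¹ = i * c := by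
      intro c hc hcz p hp hpx
      refine ⟨p * c * p⁻¹ * c⁻¹, ?_, by group⟩
      have hd' : p * c * p⁻¹ * c⁻¹ ∈ Q' := mul_mem (hN p hpx c hc) (inv_mem hc)
      have hd : p * c * p⁻¹ * c⁻¹ ∈ Q := by
        rw [show p * c * p⁻¹ * c⁻¹ = p * (c * p⁻¹ * c⁻¹) by group]
        exact mul_mem hp (h.norm c hcz _ (inv_mem hp))
      set d := p * c * p⁻¹ * c⁻¹
      have hd2 : d * d = 1 := by
        rcases h.sq_cases d hd with e | e
        · exact e
        · exact absurd (e ▸ mul_mem hd' hd') hz'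
      have hcomm : ∀ r ∈ Q, r * x = x * r → r * d = d * r := by
        intro r hr hrx
        rcases h.conj_cases r hr d hd with e | e
        · exact mul_inv_eq_iff_eq_mul.1 e
        · refine absurd ?_ hz'
          have := mul_mem (inv_mem hd') (e ▸ hN r hrx d hd')
          rwa [inv_mul_cancel_left] at this
      rcases h.mem_pair_of_commute hxQ h'.sq hx1 hxz hd hd2 hcomm with e | e | e | e
      · exact Or.inl e
      · exact absurd (e ▸ hd') hz'
      · exact Or.inr e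
      · refine absurd ?_ hz'
        have := mul_mem (e ▸ hd') h'.mem
        rwa [mul_assoc, h'.sq, mul_one] at this
    have step4 : ∀ p ∈ Q, p * x = x * p → ∀ v ∈ Q', ∀ c ∈ Q', c * z = z * c →
        v⁻¹ * (p * v * p⁻¹) * c = c * (v⁻¹ * (p * v * p⁻¹)) := by
      intro p hp hpx v hv c hc hcz
      obtain ⟨i, hi, hpc⟩ := step3 c hc hcz p hp hpx
      obtain ⟨j, hj, hvc⟩ : ∃ j, (j = 1 ∨ j = x) ∧ v * c * v⁻¹ = c * j := by
        rcases h'.conj_cases v hv c hc with e | e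
        exacts [⟨1, Or.inl rfl, by rw [e, mul_one]⟩, ⟨x, Or.inr rfl, e⟩]
      have hij : ∀ u ∈ Q', u * i = i * u := by
        intro u hu
        rcases hi with rfl | rfl
        exacts [by group, h'.comm u hu]
      have hpj : p * j * p⁻¹ = j := by
        rcases hj with rfl | rfl
        exacts [by group, by rw [hpx, mul_inv_cancel_right]]
      have hu := hN p hpx v hv
      set u := p * v * p⁻¹ with hu'
      have e1 : u * (i * c) * u⁻¹ = i * c * j := by
        rw [← hpc, hu', show p * v * p⁻¹ * (p * c * p⁻¹) * (p * v * p⁻¹)⁻¹ = p * (v * c * v⁻¹) * p⁻¹ by group,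
          hvc, show p * (c * j) * p⁻¹ = p * c * p⁻¹ * (p * j * p⁻¹) by group, hpj]
      rw [← mul_assoc u i, hij u hu, show i * u * c * u⁻¹ = i * (u * c * u⁻¹) by group, mul_assoc i c j,
        mul_left_cancel_iff, ← hvc] at e1
      calc v⁻¹ * u * c = v⁻¹ * (u * c * u⁻¹) * u := by group
        _ = c * (v⁻¹ * u) := by rw [e1]; group
    have final : ∀ v ∈ Q', z * v * z⁻¹ = v := by
      intro v hv
      obtain ⟨s, hs⟩ : ∃ s, s = v⁻¹ * (a * v * a⁻¹) := ⟨_, rfl⟩
      obtain ⟨t, ht⟩ : ∃ t, t = v⁻¹ * (b * v * b⁻¹) := ⟨_, rfl⟩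
      have hav : a * v * a⁻¹ = v * s := by rw [hs]; group
      have hbv : b * v * b⁻¹ = v * t := by rw [ht]; group
      have hs' : s ∈ Q' := hs ▸ mul_mem (inv_mem hv) (hN a hax v hv)
      have ht' : t ∈ Q' := ht ▸ mul_mem (inv_mem hv) (hN b hbx v hv)
      have hsT : ∀ c ∈ Q', c * z = z * c → s * c = c * s := hs ▸ step4 a ha hax v hv
      have htT : ∀ c ∈ Q', c * z = z * c → t * c = c * t := ht ▸ step4 b hb hbx v hv
      have hsz : s * z = z * s := (mul_inv_eq_iff_eq_mul.1 (step2 s hs' hsT)).symm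
      have htz : t * z = z * t := (mul_inv_eq_iff_eq_mul.1 (step2 t ht' htT)).symm
      have hst : t * s = s * t := htT s hs' hsz
      obtain ⟨i, hi, hai⟩ := step3 t ht' htz a ha hax
      obtain ⟨j, hj, hbj⟩ := step3 s hs' hsz b hb hbx
      have hix : ∀ k, (k = 1 ∨ k = x) → ∀ u ∈ Q', u * k = k * u := by
        intro k hk u hu
        rcases hk with rfl | rfl
        exacts [by group, h'.comm u hu]
      obtain ⟨X, hX⟩ : ∃ X, X = v * (s * t) := ⟨_, rfl⟩
      have hA : a * b * v * (a * b)⁻¹ = X * i := by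
        rw [show a * b * v * (a * b)⁻¹ = a * (b * v * b⁻¹) * a⁻¹ by group, hbv,
          show a * (v * t) * a⁻¹ = a * v * a⁻¹ * (a * t * a⁻¹) by group, hav, hai, ← hix i hi t ht', hX]
        group
      have hB : b * a * v * (b * a)⁻¹ = X * j := by
        rw [show b * a * v * (b * a)⁻¹ = b * (a * v * a⁻¹) * b⁻¹ by group, hav,
          show b * (v * s) * b⁻¹ = b * v * b⁻¹ * (b * s * b⁻¹) by group, hbv, hbj, ← hix j hj s hs', hX, ← hst]
        group
      have hba : a * b = b * a * z := by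
        rw [mul_inv_eq_iff_eq_mul] at hab
        rw [hab, mul_assoc b z a, ← h.comm a ha, ← mul_assoc]
      have hZ : b * a * (z * v * z⁻¹) * (b * a)⁻¹ = X * i := by
        rw [← hA, hba]; group
      obtain ⟨k, hk, hk'⟩ : ∃ k, (k = 1 ∨ k = x) ∧ X * i = b * a * (v * k) * (b * a)⁻¹ := by
        have hxc : b * a * x * (b * a)⁻¹ = x := by
          rw [show b * a * x * (b * a)⁻¹ = b * (a * x * a⁻¹) * b⁻¹ by group, hax, mul_inv_cancel_right, hbx,
            mul_inv_cancel_right]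
        have hXx : b * a * (v * x) * (b * a)⁻¹ = X * j * x := by
          rw [show b * a * (v * x) * (b * a)⁻¹ = b * a * v * (b * a)⁻¹ * (b * a * x * (b * a)⁻¹) by group, hB, hxc]
        rcases hi with rfl | rfl <;> rcases hj with rfl | rfl
        · exact ⟨1, Or.inl rfl, by rw [mul_one v, hB]⟩
        · exact ⟨x, Or.inr rfl, by rw [hXx, mul_one, mul_assoc, h'.sq, mul_one]⟩
        · exact ⟨x, Or.inr rfl, by rw [hXx, mul_one]⟩
        · exact ⟨1, Or.inl rfl, by rw [mul_one v, hB]⟩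
      rw [hk'] at hZ
      have hfin : z * v * z⁻¹ = v * k := mul_left_cancel (mul_right_cancel hZ)
      rcases hk with rfl | rfl
      · rwa [mul_one] at hfin
      · exact absurd hfin (bad v hv)
    exact hzcent final

end SQ

end Cfsg.Agent.SympQ
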